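/-
Groups in which distinct Sylow 2-subgroups meet in cyclic groups: the uniqueness of the Sylow
subgroup over an involution outside the 2-core, and general lemmas used for the centrality of
the 2-core.
-/
import Mathlib
import Cfsg.Agent.S0205
import Cfsg.Agent.Lib.Cores.Basic
import Cfsg.Agent.Lib.Invol.Dihedral
import Cfsg.Agent.Lib.Invol.Sylow
import Cfsg.Agent.Lib.Solvable.UniqueSubgroup

set_option autoImplicit false

namespace CfsgLib.CyclicTwoInt

open scoped commutatorElement

/-- Distinct Sylow 2-subgroups meet in cyclic groups. -/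
def CycInt (H : Type*) [Group H] : Prop :=
  ∀ S T : Sylow 2 H, S ≠ T → IsCyclic ↥((S : Subgroup H) ⊓ (T : Subgroup H))

variable {H : Type*} [Group H] [Finite H]

theorem eq_of_noncomm (hc : CycInt H) {S T : Sylow 2 H} {x y : H} (hxS : x ∈ (S : Subgroup H))
    (hxT : x ∈ (T : Subgroup H)) (hyS : y ∈ (S : Subgroup H)) (hyT : y ∈ (T : Subgroup H))
    (hne : x * y ≠ y * x) : S = T := by
  by_contra h
  obtain ⟨g, hg⟩ := (hc S T h).exists_generator
  obtain ⟨i, hi⟩ := hg ⟨x, hxS, hxT⟩
  obtain ⟨j, hj⟩ := hg ⟨y, hyS, hyT⟩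
  refine hne ?_
  have := congrArg Subtype.val (((Commute.refl g).zpow_zpow i j).eq)
  simp only at hi hj
  rw [hi, hj] at this
  exact this

theorem eq_of_two_invol (hc : CycInt H) {S T : Sylow 2 H} {a b : H} (ha : a * a = 1) (ha1 : a ≠ 1)
    (hb : b * b = 1) (hb1 : b ≠ 1) (hab : a ≠ b) (haS : a ∈ (S : Subgroup H))
    (haT : a ∈ (T : Subgroup H)) (hbS : b ∈ (S : Subgroup H)) (hbT : b ∈ (T : Subgroup H)) :
    S = T := by
  classical
  by_contra h
  set D := (S : Subgroup H) ⊓ (T : Subgroup H)
  haveI : IsCyclic D := hc S T h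
  haveI : Fintype D := Fintype.ofFinite _
  have hsub : ({1, ⟨a, haS, haT⟩, ⟨b, hbS, hbT⟩} : Finset D) ⊆
      Finset.univ.filter fun d => d ^ 2 = 1 := by
    intro d hd
    simp only [Finset.mem_insert, Finset.mem_singleton] at hd
    simp only [Finset.mem_filter, Finset.mem_univ, true_and, sq]
    rcases hd with rfl | rfl | rfl
    exacts [mul_one _, Subtype.ext ha, Subtype.ext hb]
  have h3 : ({1, ⟨a, haS, haT⟩, ⟨b, hbS, hbT⟩} : Finset D).card = 3 := by
    rw [Finset.card_insert_of_notMem, Finset.card_insert_of_notMem, Finset.card_singleton]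
    · simpa [Subtype.ext_iff] using hab
    · simp only [Finset.mem_insert, Finset.mem_singleton, not_or, Subtype.ext_iff,
        OneMemClass.coe_one]
      exact ⟨fun e => ha1 e.symm, fun e => hb1 e.symm⟩
  have h4 := (Finset.card_le_card hsub).trans (IsCyclic.card_pow_eq_one_le two_pos)
  omega

theorem solvable_of_odd {G : Type*} [Group G] [Finite G] (h : Odd (Nat.card G)) :
    Group.IsSolvable G :=
  Cfsg.Agent.S0205.result h

theorem isSolvable_of_normal {G : Type*} [Group G] (N : Subgroup G) [N.Normal]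
    (hN : Group.IsSolvable N) (hQ : Group.IsSolvable (G ⧸ N)) : Group.IsSolvable G :=
  Group.isSolvable_of_ker_le_range N.subtype (QuotientGroup.mk' N) (by simp)

/-- A group with a normal Sylow 2-subgroup is solvable. -/
theorem isSolvable_of_sylow_normal (S : Sylow 2 H) (hS : (S : Subgroup H).Normal) :
    Group.IsSolvable H := by
  haveI : Fact (Nat.Prime 2) := ⟨Nat.prime_two⟩
  haveI := S.isPGroup'.isNilpotent
  refine isSolvable_of_normal (S : Subgroup H) inferInstance (solvable_of_odd ?_)
  rw [← Subgroup.index_eq_card, Nat.odd_iff]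
  have := S.not_dvd_index
  omega

/-- A group with cyclic Sylow 2-subgroups is solvable. -/
theorem isSolvable_of_cyclic_sylow (S : Sylow 2 H) (hS : IsCyclic (S : Subgroup H)) :
    Group.IsSolvable H := by
  haveI : Fact (Nat.Prime 2) := ⟨Nat.prime_two⟩
  rcases Nat.even_or_odd (Nat.card H) with he | ho
  · have hmin : (Nat.card H).minFac = 2 := (Nat.minFac_eq_two_iff _).mpr (even_iff_two_dvd.mp he)
    have hcompl := IsCyclic.isComplement' hmin hS
    generalize hker : (MonoidHom.transferSylow S (hS.normalizer_le_centralizer hmin)).ker = N at hcompl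
    haveI : N.Normal := hker ▸ MonoidHom.normal_ker _
    have hNodd : Odd (Nat.card N) := by
      rw [← hcompl.index_eq_card, Nat.odd_iff]
      have := S.not_dvd_index
      omega
    refine isSolvable_of_normal N (solvable_of_odd hNodd) ?_
    haveI : IsCyclic (H ⧸ N) := isCyclic_of_surjective
      ((QuotientGroup.mk' N).comp (S : Subgroup H).subtype) (by
        intro q
        obtain ⟨g, rfl⟩ := QuotientGroup.mk'_surjective N q
        obtain ⟨⟨⟨n, hn⟩, ⟨t, ht⟩⟩, rfl⟩ := hcompl.2 g
        refine ⟨⟨t, ht⟩, ?_⟩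
        simp [(QuotientGroup.eq_one_iff n).mpr hn])
    haveI : IsMulCommutative (H ⧸ N) := IsCyclic.isMulCommutative
    exact Group.isSolvable_of_comm fun a b => mul_comm' a b
  · exact solvable_of_odd ho

/-- A central element of a generalised quaternion group has order at most two. -/
theorem quaternion_center_sq {n : ℕ} (hn : 2 ≤ n) {x : QuaternionGroup n}
    (hx : ∀ y, x * y = y * x) : x * x = 1 := by
  haveI : NeZero n := ⟨by omega⟩
  cases x with
  | a i =>
    have h := hx (QuaternionGroup.xa 0)
    rw [QuaternionGroup.a_mul_xa, QuaternionGroup.xa_mul_a, QuaternionGroup.xa.injEq] at h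
    rw [QuaternionGroup.a_mul_a, QuaternionGroup.one_def, QuaternionGroup.a.injEq]
    rw [zero_sub, zero_add] at h
    exact (neg_eq_iff_add_eq_zero.1 h)
  | xa i =>
    exfalso
    have h := hx (QuaternionGroup.a 1)
    rw [QuaternionGroup.xa_mul_a, QuaternionGroup.a_mul_xa, QuaternionGroup.xa.injEq] at h
    have h2 : ((2 : ℕ) : ZMod (2 * n)) = 0 := by
      have : i + 1 - (i - 1) = 0 := by rw [h]; ring
      push_cast
      linear_combination this
    rw [ZMod.natCast_eq_zero_iff] at h2
    have := Nat.le_of_dvd (by omega) h2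
    omega

/-- Descent in a nilpotent group: if a product of two commuting distinct conjugates of `a` is
always a conjugate of `a`, then `a` is central. -/
theorem central_of_commuting_conj {P : Type*} [Group P] [Finite P] [Group.IsNilpotent P] (a : P)
    (h : ∀ g : P, Commute a (g * a * g⁻¹) → g * a * g⁻¹ ≠ a →
      ∃ k : P, k * a * k⁻¹ = a * (g * a * g⁻¹)) :
    a ∈ Subgroup.center P := by
  by_contra hac
  have hlt : Subgroup.centralizer ({a} : Set P) < ⊤ := lt_top_iff_ne_top.2 fun htop => hac
    (Subgroup.mem_center_iff.2 fun g => Subgroup.mem_centralizer_singleton_iff.1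
      (htop ▸ Subgroup.mem_top g))
  obtain ⟨g, hgN, hgC⟩ := SetLike.exists_of_lt (Group.normalizerCondition_of_isNilpotent _ hlt)
  set a' := g * a * g⁻¹ with ha'
  have hca : a' ∈ Subgroup.centralizer ({a} : Set P) :=
    (Subgroup.mem_normalizer_iff.1 hgN a).1 (Subgroup.mem_centralizer_singleton_iff.2 rfl)
  have hne : a' ≠ a := fun e => hgC (Subgroup.mem_centralizer_singleton_iff.2
    (mul_inv_eq_iff_eq_mul.1 e))
  obtain ⟨k, hk⟩ := h g ((Subgroup.mem_centralizer_singleton_iff.1 hca).symm) hne
  have hall : ∀ i, a ∈ Subgroup.lowerCentralSeries (⊤ : Subgroup P) i := by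
    intro i
    induction i with
    | zero => exact Subgroup.mem_top a
    | succ i ih =>
      rw [Subgroup.lowerCentralSeries_succ]
      have h1 : a' = ⁅a⁻¹, k⁆ := by
        rw [commutatorElement_def, inv_inv]
        calc a' = a⁻¹ * (a * a') := by group
          _ = a⁻¹ * (k * a * k⁻¹) := by rw [hk]
          _ = _ := by group
      have h2 : a' ∈ ⁅Subgroup.lowerCentralSeries (⊤ : Subgroup P) i, (⊤ : Subgroup P)⁆ := by
        rw [h1]
        exact Subgroup.commutator_mem_commutator (inv_mem ih) (Subgroup.mem_top k)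
      have hnorm : (⁅Subgroup.lowerCentralSeries (⊤ : Subgroup P) i, (⊤ : Subgroup P)⁆).Normal :=
        inferInstance
      have h3 := hnorm.conj_mem a' h2 g⁻¹
      rwa [ha', show g⁻¹ * (g * a * g⁻¹) * g⁻¹⁻¹ = a by group] at h3
  obtain ⟨n, hn⟩ := Subgroup.nilpotent_iff_lowerCentralSeries.1 ‹Group.IsNilpotent P›
  have h1 := hall n
  rw [hn, Subgroup.mem_bot] at h1
  exact hac (h1 ▸ one_mem _)

end CfsgLib.CyclicTwoInt
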