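/-
A nonsolvable group with trivial odd core in which distinct Sylow 2-subgroups meet in cyclic
groups and whose 2-core is not central: the setting of the proof by contradiction, and the
lemmas on involutions in different Sylow 2-subgroups.
-/
import Cfsg.Agent.Lib.CyclicTwoInt.Basic

set_option autoImplicit false

namespace CfsgLib.CyclicTwoInt

open Cfsg

variable {H : Type*} [Group H] [Finite H]

/-- The centraliser of the 2-core. -/
def coreCent (H : Type*) [Group H] : Subgroup H :=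
  Subgroup.centralizer (pCore 2 H : Set H)

instance coreCent_normal : (coreCent H).Normal := Subgroup.normal_centralizer

theorem mem_coreCent {x : H} : x ∈ coreCent H ↔ ∀ r ∈ pCore 2 H, r * x = x * r :=
  Subgroup.mem_centralizer_iff

/-- The data of the proof by contradiction: `g` generates the 2-core, of order `2 ^ (n + 2)`. -/
structure Data (H : Type*) [Group H] [Finite H] (g : H) (n : ℕ) : Prop where
  cyc : CycInt H
  nsolv : ¬ Group.IsSolvable H
  core : oddCore H = ⊥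
  gen : pCore 2 H = Subgroup.zpowers g
  ord : orderOf g = 2 ^ (n + 2)
  out : ∃ y, y ∉ coreCent H

theorem two_pow_two_sylow_ne (hns : ¬ Group.IsSolvable H) (S : Sylow 2 H) :
    ∃ T : Sylow 2 H, T ≠ S := by
  haveI : Fact (Nat.Prime 2) := ⟨Nat.prime_two⟩
  by_contra h
  push_neg at h
  haveI : Subsingleton (Sylow 2 H) := ⟨fun A B => (h A).trans (h B).symm⟩
  exact hns (isSolvable_of_sylow_normal S S.normal_of_subsingleton)

theorem isCyclic_core (hc : CycInt H) (hns : ¬ Group.IsSolvable H) : IsCyclic (pCore 2 H) := by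
  haveI : Fact (Nat.Prime 2) := ⟨Nat.prime_two⟩
  obtain ⟨S⟩ : Nonempty (Sylow 2 H) := inferInstance
  obtain ⟨T, hT⟩ := two_pow_two_sylow_ne hns S
  haveI := hc S T hT.symm
  exact Subgroup.isCyclic_of_le
    (le_inf (CfsgLib.Cores.pCore_le_sylow S) (CfsgLib.Cores.pCore_le_sylow T))

theorem exists_data (hc : CycInt H) (hns : ¬ Group.IsSolvable H) (hO : oddCore H = ⊥) {y : H}
    (hy : y ∉ coreCent H) : ∃ g n, Data H g n := by
  haveI : Fact (Nat.Prime 2) := ⟨Nat.prime_two⟩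
  obtain ⟨g, hg⟩ := (Subgroup.isCyclic_iff_exists_zpowers_eq_top _).1 (isCyclic_core hc hns)
  obtain ⟨k, hk⟩ := CfsgLib.Cores.card_pCore_eq_pow (G := H) 2
  rw [← hg, Nat.card_zpowers] at hk
  rcases Nat.lt_or_ge k 2 with hk2 | hk2
  · exfalso
    refine hy (mem_coreCent.2 fun r hr => ?_)
    rw [← hg] at hr
    have h2 : g ^ 2 = 1 := by
      rw [← orderOf_dvd_iff_pow_eq_one, hk]
      exact (Nat.dvd_prime_pow Nat.prime_two (i := 2 ^ k) (m := 1)).2 ⟨k, by omega, rfl⟩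
    have hconj : y * g * y⁻¹ ∈ Subgroup.zpowers g := by
      rw [hg]
      exact Subgroup.Normal.conj_mem (inferInstance : (pCore 2 H).Normal) g
        (hg ▸ Subgroup.mem_zpowers g) y
    obtain ⟨i, hi : g ^ i = y * g * y⁻¹⟩ := hconj
    have hgg : g * y = y * g := by
      rcases Int.even_or_odd i with ⟨j, rfl⟩ | ⟨j, rfl⟩
      · rw [← two_mul, zpow_mul, zpow_two, ← sq, h2, one_zpow] at hi
        have hg1 : g = 1 := conj_eq_one_iff.1 hi.symm
        rw [hg1, one_mul, mul_one]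
      · rw [zpow_add, zpow_mul, zpow_two, ← sq, h2, one_zpow, one_mul, zpow_one] at hi
        exact eq_mul_inv_iff_mul_eq.1 hi
    obtain ⟨l, rfl⟩ := hr
    exact ((show Commute g y from hgg).zpow_left l).eq
  · exact ⟨g, k - 2, hc, hns, hO, hg.symm, by rw [hk]; congr 1; omega, ⟨y, hy⟩⟩

variable {g : H} {n : ℕ}

theorem Data.mem_core (d : Data H g n) : g ∈ pCore 2 H := d.gen ▸ Subgroup.mem_zpowers g

/-- The involution of the 2-core and an element of order four. -/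
theorem Data.exists_iota (d : Data H g n) :
    ∃ ι q : H, ι ∈ pCore 2 H ∧ q ∈ pCore 2 H ∧ q * q = ι ∧ ι ≠ 1 ∧ ι * ι = 1 ∧
      ∀ r ∈ pCore 2 H, r * r = 1 → r = 1 ∨ r = ι := by
  have h1 : g ^ 2 ^ (n + 2) = 1 := d.ord ▸ pow_orderOf_eq_one g
  refine ⟨g ^ 2 ^ (n + 1), g ^ 2 ^ n, pow_mem d.mem_core _, pow_mem d.mem_core _, ?_, ?_, ?_, ?_⟩
  · rw [← pow_add, pow_succ, mul_two]
  · refine pow_ne_one_of_lt_orderOf (by positivity) ?_
    rw [d.ord]
    exact Nat.pow_lt_pow_right (by norm_num) (by omega)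
  · rw [← pow_add, ← mul_two, ← pow_succ, h1]
  · intro r hr hrr
    rw [d.gen] at hr
    obtain ⟨i, rfl⟩ := hr
    simp only at hrr ⊢
    rw [← zpow_add, ← orderOf_dvd_iff_zpow_eq_one, d.ord, ← mul_two,
      show ((2 ^ (n + 2) : ℕ) : ℤ) = (2 ^ (n + 1) : ℕ) * 2 by push_cast; ring] at hrr
    obtain ⟨j, rfl⟩ := Int.dvd_of_mul_dvd_mul_right two_ne_zero hrr
    rw [zpow_mul, zpow_natCast]
    rcases Int.even_or_odd j with ⟨l, rfl⟩ | ⟨l, rfl⟩
    · left
      rw [← two_mul, zpow_mul, zpow_two, ← pow_add, ← mul_two, ← pow_succ, h1, one_zpow]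
    · right
      rw [zpow_add, zpow_mul, zpow_two, ← pow_add, ← mul_two, ← pow_succ, h1, one_zpow, one_mul,
        zpow_one]

theorem Data.core_le_cent (d : Data H g n) : pCore 2 H ≤ coreCent H := by
  intro x hx
  refine mem_coreCent.2 fun r hr => ?_
  rw [d.gen] at hx hr
  obtain ⟨i, rfl⟩ := hx
  obtain ⟨j, rfl⟩ := hr
  exact ((Commute.refl g).zpow_zpow j i).eq

theorem Data.aut_two (d : Data H g n) : IsPGroup 2 (H ⧸ coreCent H) := by
  haveI : Fact (Nat.Prime 2) := ⟨Nat.prime_two⟩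
  haveI := isCyclic_core d.cyc d.nsolv
  let f : H →* MulAut (pCore 2 H) := MulAut.conjNormal
  have hker : f.ker ≤ coreCent H := by
    intro k hk
    refine mem_coreCent.2 fun a ha => ?_
    have h1 : f k ⟨a, ha⟩ = ⟨a, ha⟩ := by rw [MonoidHom.mem_ker.1 hk]; rfl
    have h2 : k * a * k⁻¹ = a := by
      have := congrArg Subtype.val h1
      simpa [f, MulAut.conjNormal_apply] using this
    exact (mul_inv_eq_iff_eq_mul.1 h2).symm
  have hMA : IsPGroup 2 (MulAut (pCore 2 H)) := by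
    refine IsPGroup.of_card (n := n + 1) ?_
    rw [IsCyclic.card_mulAut, d.gen, Nat.card_zpowers, d.ord,
      Nat.totient_prime_pow Nat.prime_two (by omega)]
    simp
  intro x
  obtain ⟨h, rfl⟩ := QuotientGroup.mk'_surjective _ x
  obtain ⟨k, hk⟩ := hMA (f h)
  refine ⟨k, ?_⟩
  rw [← map_pow, QuotientGroup.mk'_apply, QuotientGroup.eq_one_iff]
  exact hker (by rw [MonoidHom.mem_ker, map_pow, hk])

theorem Data.mem_cent_of_odd (d : Data H g n) {x : H} (hx : Odd (orderOf x)) :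
    x ∈ coreCent H := by
  obtain ⟨k, hk⟩ := d.aut_two (QuotientGroup.mk x)
  rw [← QuotientGroup.eq_one_iff, ← orderOf_eq_one_iff]
  exact Nat.eq_one_of_dvd_coprimes ((Nat.coprime_two_right.2 hx).pow_right k)
    (orderOf_map_dvd (QuotientGroup.mk' (coreCent H)) x) (orderOf_dvd_of_pow_eq_one hk)

/-- An element outside the centraliser has a power of 2-power order outside it. -/
theorem Data.two_part (d : Data H g n) {y : H} (hy : y ∉ coreCent H) :
    ∃ m : ℕ, Odd m ∧ IsPGroup 2 (Subgroup.zpowers (y ^ m)) ∧ y ^ m ∉ coreCent H := by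
  obtain ⟨k, m, hm, hkm⟩ := Nat.exists_eq_two_pow_mul_odd (orderOf_pos y).ne'
  have h1 : orderOf (y ^ m) = 2 ^ k := by
    rw [orderOf_pow_of_dvd hm.pos.ne' (hkm ▸ dvd_mul_left _ _), hkm,
      Nat.mul_div_cancel _ hm.pos]
  have h2 : y ^ 2 ^ k ∈ coreCent H := d.mem_cent_of_odd (by
    rw [orderOf_pow_of_dvd (pow_ne_zero _ two_ne_zero) (hkm ▸ dvd_mul_right _ _), hkm,
      Nat.mul_div_cancel_left _ (pow_pos two_pos k)]
    exact hm)
  refine ⟨m, hm, IsPGroup.of_card (by rw [Nat.card_zpowers, h1]), fun h3 => hy ?_⟩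
  have hg : Int.gcd (m : ℤ) ((2 ^ k : ℕ) : ℤ) = 1 := by
    rw [Int.gcd_natCast_natCast]; exact (Nat.coprime_two_right.2 hm).pow_right k
  have hb := Int.gcd_eq_gcd_ab (m : ℤ) ((2 ^ k : ℕ) : ℤ)
  rw [hg, Nat.cast_one] at hb
  have : y = (y ^ m) ^ Int.gcdA m (2 ^ k : ℕ) * (y ^ 2 ^ k) ^ Int.gcdB m (2 ^ k : ℕ) := by
    rw [← zpow_natCast, ← zpow_natCast, ← zpow_mul, ← zpow_mul, ← zpow_add, ← hb, zpow_one]
  rw [this]
  exact Subgroup.mul_mem _ (Subgroup.zpow_mem _ h3 _) (Subgroup.zpow_mem _ h2 _)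

theorem Data.sylow_eq_of_out (d : Data H g n) {x : H} (hx : x ∉ coreCent H) {S T : Sylow 2 H}
    (hxS : x ∈ (S : Subgroup H)) (hxT : x ∈ (T : Subgroup H)) : S = T := by
  haveI : Fact (Nat.Prime 2) := ⟨Nat.prime_two⟩
  rw [mem_coreCent] at hx
  push_neg at hx
  obtain ⟨r, hr, hrx⟩ := hx
  exact eq_of_noncomm d.cyc (CfsgLib.Cores.pCore_le_sylow S hr) (CfsgLib.Cores.pCore_le_sylow T hr)
    hxS hxT hrx

/-- An involution of the centraliser outside the 2-core. -/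
structure IsOuterInvol (z : H) : Prop where
  sq : z * z = 1
  cent : z ∈ coreCent H
  nmem : z ∉ pCore 2 H

theorem Data.sylow_eq_of_invol (d : Data H g n) {z : H} (hz : IsOuterInvol z) {S T : Sylow 2 H}
    (hzS : z ∈ (S : Subgroup H)) (hzT : z ∈ (T : Subgroup H)) : S = T := by
  haveI : Fact (Nat.Prime 2) := ⟨Nat.prime_two⟩
  obtain ⟨ι, q, hι, -, -, hι1, hι2, -⟩ := d.exists_iota
  exact eq_of_two_invol d.cyc hz.sq (fun e => hz.nmem (e ▸ one_mem _)) hι2 hι1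
    (fun e => hz.nmem (e ▸ hι)) hzS hzT (CfsgLib.Cores.pCore_le_sylow S hι)
    (CfsgLib.Cores.pCore_le_sylow T hι)

theorem Data.outer_of_sq_mem (d : Data H g n) {a y : H} (ha : a ∈ coreCent H)
    (hy : y ∈ coreCent H) (hyR : y ∉ pCore 2 H) (hyy : y * y ∈ pCore 2 H)
    (hinv : a * y * a⁻¹ = y⁻¹) : ∃ z, IsOuterInvol z ∧ z⁻¹ * y ∈ pCore 2 H := by
  obtain ⟨ι, q, hι, hq, hqq, hι1, hι2, huniq⟩ := d.exists_iota
  have h1 : a * (y * y) * a⁻¹ = y * y := by
    rw [← mem_coreCent.1 ha _ hyy, mul_inv_cancel_right]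
  have h2 : a * (y * y) * a⁻¹ = (y * y)⁻¹ := by rw [← conj_mul, hinv, mul_inv_rev]
  have h3 : (y * y) * (y * y) = 1 := by
    nth_rewrite 1 [← h1]; rw [h2, inv_mul_cancel]
  rcases huniq _ hyy h3 with h4 | h4
  · exact ⟨y, ⟨h4, hy, hyR⟩, by simpa using one_mem _⟩
  · have hc : y * q⁻¹ = q⁻¹ * y := (mem_coreCent.1 hy _ (inv_mem hq)).symm
    refine ⟨y * q⁻¹, ⟨?_, mul_mem hy (inv_mem (d.core_le_cent hq)), ?_⟩, ?_⟩
    · calc y * q⁻¹ * (y * q⁻¹) = y * (q⁻¹ * y) * q⁻¹ := by group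
        _ = (y * y) * (q⁻¹ * q⁻¹) := by rw [← hc]; group
        _ = 1 := by rw [← mul_inv_rev, hqq, h4, mul_inv_cancel]
    · intro hmem
      exact hyR (by simpa using mul_mem hmem hq)
    · rw [mul_inv_rev, inv_inv, inv_mul_cancel_right]
      exact hq

theorem exists_sylow_pair {a b : H} (ha : ∃ k : ℕ, a ^ 2 ^ k ∈ pCore 2 H)
    (hb : ∃ k : ℕ, b ^ 2 ^ k ∈ pCore 2 H)
    (hn : ∃ e : ℤ, (a * b * a⁻¹)⁻¹ * b ^ e ∈ pCore 2 H) :
    ∃ S : Sylow 2 H, a ∈ (S : Subgroup H) ∧ b ∈ (S : Subgroup H) := by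
  haveI : Fact (Nat.Prime 2) := ⟨Nat.prime_two⟩
  set π := QuotientGroup.mk' (pCore 2 H)
  have hmem : ∀ x, π x = 1 ↔ x ∈ pCore 2 H := fun x => QuotientGroup.eq_one_iff x
  have hp : ∀ {x : H}, (∃ k : ℕ, x ^ 2 ^ k ∈ pCore 2 H) → IsPGroup 2 (Subgroup.zpowers (π x)) := by
    rintro x ⟨k, hk⟩
    rintro ⟨y, i, rfl⟩
    refine ⟨k, Subtype.ext ?_⟩
    show ((π x) ^ i) ^ 2 ^ k = 1
    rw [← zpow_natCast, ← zpow_mul, mul_comm, zpow_mul, zpow_natCast, ← map_pow, (hmem _).2 hk,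
      one_zpow]
  obtain ⟨e, he⟩ := hn
  have hnorm : Subgroup.zpowers (π a) ≤
      Subgroup.normalizer (Subgroup.zpowers (π b) : Set (H ⧸ pCore 2 H)) := by
    rw [Subgroup.zpowers_le, Subgroup.mem_normalizer_iff_map_conj_eq]
    refine Subgroup.eq_of_le_of_card_ge ?_ ?_
    · rw [MonoidHom.map_zpowers, Subgroup.zpowers_le]
      refine ⟨e, ?_⟩
      show (π b) ^ e = π a * π b * (π a)⁻¹
      rw [← map_zpow, ← map_inv, ← map_mul, ← map_mul]
      exact ((QuotientGroup.eq).2 he).symm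
    · rw [Subgroup.card_map_of_injective (MulEquiv.injective _)]
  have hP := IsPGroup.to_sup_of_normal_left' (hp hb) (hp ha) hnorm
  have hP' := hP.comap_of_ker_isPGroup π (by
    rw [QuotientGroup.ker_mk']; exact CfsgLib.Cores.isPGroup_pCore 2)
  obtain ⟨S, hS⟩ := hP'.exists_le_sylow
  exact ⟨S, hS (Subgroup.mem_sup_right (Subgroup.mem_zpowers (π a)) : π a ∈ _),
    hS (Subgroup.mem_sup_left (Subgroup.mem_zpowers (π b)) : π b ∈ _)⟩

/-- An outer involution has a conjugate in another Sylow subgroup. -/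
theorem Data.exists_conj_other (d : Data H g n) {z : H} (hz : IsOuterInvol z) (S : Sylow 2 H) :
    ∃ (T : Sylow 2 H) (x : H), T ≠ S ∧ IsOuterInvol (x * z * x⁻¹) ∧
      x * z * x⁻¹ ∈ (T : Subgroup H) := by
  haveI : Fact (Nat.Prime 2) := ⟨Nat.prime_two⟩
  have hconj : ∀ x : H, IsOuterInvol (x * z * x⁻¹) := fun x => ⟨by
    rw [conj_mul, hz.sq, mul_one, mul_inv_cancel],
    (inferInstance : (coreCent H).Normal).conj_mem z hz.cent x, fun hm => hz.nmem (by
      have := (inferInstance : (pCore 2 H).Normal).conj_mem _ hm x⁻¹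
      rwa [show x⁻¹ * (x * z * x⁻¹) * x⁻¹⁻¹ = z by group] at this)⟩
  obtain ⟨S0, hzS0⟩ : ∃ S0 : Sylow 2 H, z ∈ (S0 : Subgroup H) := by
    obtain ⟨S0, h1, -⟩ := CfsgLib.Invol.exists_sylow_of_commute hz.sq hz.sq (Commute.refl z)
    exact ⟨S0, h1⟩
  obtain ⟨T, hT⟩ := two_pow_two_sylow_ne d.nsolv S
  obtain ⟨x, rfl⟩ := MulAction.exists_smul_eq H S0 T
  refine ⟨x • S0, x, hT, hconj x, ?_⟩
  rw [Sylow.coe_subgroup_smul]
  exact Subgroup.smul_mem_pointwise_smul z (MulAut.conj x) _ hzS0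

/-- An element outside the centraliser squaring into the 2-core shares its Sylow subgroup with
every outer involution. -/
theorem Data.sylow_eq_of_square (d : Data H g n) {s z : H} (hs : s ∉ coreCent H)
    (hss : s * s ∈ pCore 2 H) (hz : IsOuterInvol z) {S T : Sylow 2 H}
    (hsS : s ∈ (S : Subgroup H)) (hzT : z ∈ (T : Subgroup H)) : S = T := by
  set y := s * z with hy
  have hyC : y ∉ coreCent H := fun h => hs (by simpa [hy] using mul_mem h (inv_mem hz.cent))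
  obtain ⟨m, hm, hmp, hmC⟩ := d.two_part hyC
  set π := QuotientGroup.mk' (pCore 2 H)
  have hπs : π s * π s = 1 := by rw [← map_mul]; exact (QuotientGroup.eq_one_iff _).2 hss
  have hπz : π z * π z = 1 := by rw [← map_mul, hz.sq, map_one]
  have hconj : ∀ a : H, π a * π y * (π a)⁻¹ = (π y)⁻¹ →
      (a * y ^ m * a⁻¹)⁻¹ * (y ^ m) ^ (-1 : ℤ) ∈ pCore 2 H := by
    intro a ha
    rw [← QuotientGroup.eq_one_iff (N := pCore 2 H)]
    show π _ = 1
    rw [map_mul, map_inv, map_mul, map_mul, map_inv, map_zpow, map_pow, zpow_neg_one, ← conj_pow,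
      ha, inv_pow, inv_inv, mul_inv_cancel]
  have h2k : ∃ k : ℕ, (y ^ m) ^ 2 ^ k ∈ pCore 2 H := by
    obtain ⟨k, hk⟩ := hmp ⟨y ^ m, Subgroup.mem_zpowers _⟩
    refine ⟨k, ?_⟩
    have hk' : (y ^ m) ^ 2 ^ k = 1 := congrArg Subtype.val hk
    rw [hk']; exact one_mem _
  have hi1 : π s * π y * (π s)⁻¹ = (π y)⁻¹ := by
    rw [hy, map_mul, mul_inv_rev, ← mul_assoc, hπs, one_mul, inv_eq_of_mul_eq_one_right hπs,
      inv_eq_of_mul_eq_one_right hπz]
  have hi2 : π z * π y * (π z)⁻¹ = (π y)⁻¹ := by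
    rw [hy, map_mul, mul_inv_rev, mul_assoc, mul_inv_cancel_right, inv_eq_of_mul_eq_one_right hπs,
      inv_eq_of_mul_eq_one_right hπz]
  obtain ⟨S1, hsS1, hyS1⟩ := exists_sylow_pair ⟨1, by rw [pow_one, pow_two]; exact hss⟩ h2k
    ⟨-1, hconj s hi1⟩
  obtain ⟨S2, hzS2, hyS2⟩ := exists_sylow_pair
    ⟨1, by rw [pow_one, pow_two, hz.sq]; exact one_mem _⟩ h2k ⟨-1, hconj z hi2⟩
  rw [d.sylow_eq_of_out hs hsS hsS1, d.sylow_eq_of_invol hz hzT hzS2]
  exact d.sylow_eq_of_out hmC hyS1 hyS2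

/-- Outer involutions in different Sylow subgroups are conjugate modulo the 2-core. -/
theorem Data.exists_conj_cross (d : Data H g n) {a b : H} (ha : IsOuterInvol a)
    (hb : IsOuterInvol b) {S T : Sylow 2 H} (haS : a ∈ (S : Subgroup H))
    (hbT : b ∈ (T : Subgroup H)) (hne : S ≠ T) :
    ∃ c ∈ coreCent H, (c * a * c⁻¹)⁻¹ * b ∈ pCore 2 H := by
  obtain ⟨ι, q, hι, hq, hqq, hι1, hι2, huniq⟩ := d.exists_iota
  have hoa : orderOf a = 2 := orderOf_eq_prime (by rw [pow_two, ha.sq])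
    fun e => ha.nmem (e ▸ one_mem _)
  have hob : orderOf b = 2 := orderOf_eq_prime (by rw [pow_two, hb.sq])
    fun e => hb.nmem (e ▸ one_mem _)
  have hyC : a * b ∈ coreCent H := mul_mem ha.cent hb.cent
  rcases Nat.even_or_odd (orderOf (a * b)) with ⟨k, hk⟩ | hodd
  swap
  · obtain ⟨c, hc, hcab⟩ := CfsgLib.Invol.exists_conj_of_odd hoa hob hodd
    exact ⟨c, Subgroup.zpowers_le.2 hyC hc, by rw [hcab, inv_mul_cancel]; exact one_mem _⟩
  set y := a * b with hy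
  have hainv : a * y * a⁻¹ = y⁻¹ := by
    rw [hy, mul_inv_rev, inv_eq_of_mul_eq_one_right ha.sq, inv_eq_of_mul_eq_one_right hb.sq,
      ← mul_assoc, ha.sq, one_mul]
  have hbinv : b * y * b⁻¹ = y⁻¹ := by
    rw [hy, mul_inv_rev, inv_eq_of_mul_eq_one_right ha.sq, inv_eq_of_mul_eq_one_right hb.sq,
      mul_assoc, mul_assoc, hb.sq, mul_one]
  have hk0 : 0 < k := by have := orderOf_pos y; omega
  set w := y ^ k with hw
  have hw2 : w * w = 1 := by rw [hw, ← pow_add, ← hk, pow_orderOf_eq_one]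
  have hw1 : w ≠ 1 := pow_ne_one_of_lt_orderOf hk0.ne' (by omega)
  have hcomm : ∀ x : H, x * y * x⁻¹ = y⁻¹ → Commute x w := fun x hx => by
    refine mul_inv_eq_iff_eq_mul.1 ?_
    rw [hw, ← conj_pow, hx, inv_pow]
    exact inv_eq_of_mul_eq_one_right hw2
  have hwR : w ∈ pCore 2 H := by
    by_contra hwR
    have hwO : IsOuterInvol w := ⟨hw2, pow_mem hyC k, hwR⟩
    obtain ⟨S1, haS1, hwS1⟩ := CfsgLib.Invol.exists_sylow_of_commute ha.sq hw2 (hcomm a hainv)
    obtain ⟨S2, hbS2, hwS2⟩ := CfsgLib.Invol.exists_sylow_of_commute hb.sq hw2 (hcomm b hbinv)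
    exact hne ((d.sylow_eq_of_invol ha haS haS1).trans ((d.sylow_eq_of_invol hwO hwS1 hwS2).trans
      (d.sylow_eq_of_invol hb hbS2 hbT)))
  have hwι : w = ι := (huniq w hwR hw2).resolve_left hw1
  rcases Nat.even_or_odd k with ⟨l, hl⟩ | hkodd
  · exfalso
    set u := y ^ l with hu
    have huu : u * u = ι := by rw [hu, ← pow_add, ← hl, ← hw, hwι]
    have huC : u ∈ coreCent H := pow_mem hyC l
    have huinv : ∀ x : H, x * y * x⁻¹ = y⁻¹ → x * u * x⁻¹ = u⁻¹ := fun x hx => by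
      rw [hu, ← conj_pow, hx, inv_pow]
    have huR : u ∉ pCore 2 H := by
      intro huR
      have h1 : a * u * a⁻¹ = u := by rw [← mem_coreCent.1 ha.cent _ huR, mul_inv_cancel_right]
      rw [huinv a hainv, inv_eq_iff_mul_eq_one, huu] at h1
      exact hι1 h1
    obtain ⟨j, hj, hju⟩ := d.outer_of_sq_mem ha.cent huC huR (huu ▸ hι) (huinv a hainv)
    set π := QuotientGroup.mk' (pCore 2 H)
    have hπj : π j = π u := QuotientGroup.eq.2 hju
    have hmem : ∀ x : H, x * u * x⁻¹ = u⁻¹ → (x * j * x⁻¹)⁻¹ * j ^ (-1 : ℤ) ∈ pCore 2 H := by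
      intro x hx
      rw [← QuotientGroup.eq_one_iff (N := pCore 2 H)]
      show π _ = 1
      rw [map_mul, map_inv, map_mul, map_mul, map_zpow, hπj, ← map_mul, ← map_mul, hx, map_inv,
        inv_inv, zpow_neg_one, mul_inv_cancel]
    obtain ⟨S1, haS1, hjS1⟩ := exists_sylow_pair
      ⟨1, by rw [pow_one, pow_two, ha.sq]; exact one_mem _⟩
      ⟨1, by rw [pow_one, pow_two, hj.sq]; exact one_mem _⟩ ⟨-1, hmem a (huinv a hainv)⟩
    obtain ⟨S2, hbS2, hjS2⟩ := exists_sylow_pair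
      ⟨1, by rw [pow_one, pow_two, hb.sq]; exact one_mem _⟩
      ⟨1, by rw [pow_one, pow_two, hj.sq]; exact one_mem _⟩ ⟨-1, hmem b (huinv b hbinv)⟩
    exact hne ((d.sylow_eq_of_invol ha haS haS1).trans ((d.sylow_eq_of_invol hj hjS1 hjS2).trans
      (d.sylow_eq_of_invol hb hbS2 hbT)))
  · have hbι : b * ι = ι * b := (mem_coreCent.1 hb.cent _ hι).symm
    have hobι : orderOf (b * ι) = 2 := by
      refine orderOf_eq_prime ?_ fun e => hb.nmem ?_
      · rw [pow_two, mul_assoc, ← mul_assoc ι, ← hbι, mul_assoc b ι ι, hι2, mul_one, hb.sq]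
      · rw [eq_inv_of_mul_eq_one_left e]; exact inv_mem hι
    have hodd : Odd (orderOf (a * (b * ι))) := by
      have h1 : (a * (b * ι)) ^ k = 1 := by
        rw [← mul_assoc, ← hy,
          (show Commute y ι from (mem_coreCent.1 hyC _ hι).symm).mul_pow, ← hw, hwι]
        obtain ⟨i, rfl⟩ := hkodd
        rw [pow_succ, pow_mul, pow_two, hι2, one_pow, one_mul, hι2]
      exact hkodd.of_dvd_nat (orderOf_dvd_of_pow_eq_one h1)
    obtain ⟨c, hc, hcab⟩ := CfsgLib.Invol.exists_conj_of_odd hoa hobι hodd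
    refine ⟨c, Subgroup.zpowers_le.2 (mul_mem ha.cent (mul_mem hb.cent (d.core_le_cent hι))) hc,
      ?_⟩
    rw [hcab, mul_inv_rev, inv_mul_cancel_right]
    exact inv_mem hι

end CfsgLib.CyclicTwoInt
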