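/-
In a nonsolvable group with trivial odd core in which distinct Sylow 2-subgroups meet in cyclic
groups the 2-core is central.
-/
import Cfsg.Agent.Lib.CyclicTwoInt.Setup
import Cfsg.Agent.Lib.Invol.ZStarFinal
import Cfsg.Agent.Lib.Solvable.SchurZassenhaus

set_option autoImplicit false

namespace CfsgLib.CyclicTwoInt

open Cfsg
open scoped Pointwise

variable {H : Type*} [Group H] [Finite H] {g : H} {n : ℕ}

theorem Data.exists_outer_invol (d : Data H g n) : ∃ z : H, IsOuterInvol z := by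
  haveI : Fact (Nat.Prime 2) := ⟨Nat.prime_two⟩
  by_contra hno
  push_neg at hno
  obtain ⟨ι, q, hι, hq, hqq, hι1, hι2, huniq⟩ := d.exists_iota
  obtain ⟨P⟩ : Nonempty (Sylow 2 (coreCent H)) := inferInstance
  have heq : ∀ x : (P : Subgroup (coreCent H)), orderOf x = 2 → ((x : coreCent H) : H) = ι := by
    intro x hx
    have h1 : orderOf ((x : coreCent H) : H) = 2 := by
      rw [Subgroup.orderOf_coe, Subgroup.orderOf_coe, hx]
    have h2 := CfsgLib.Invol.mul_self_of_orderOf_two h1
    have hR : ((x : coreCent H) : H) ∈ pCore 2 H := by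
      by_contra hR
      exact hno _ ⟨h2, (x : coreCent H).2, hR⟩
    refine (huniq _ hR h2).resolve_left fun e => ?_
    rw [e, orderOf_one] at h1
    omega
  have hu : ∀ x y : (P : Subgroup (coreCent H)), orderOf x = 2 → orderOf y = 2 →
      x ∈ Subgroup.zpowers y := fun x y hx hy => by
    have : x = y := Subtype.ext (Subtype.ext ((heq x hx).trans (heq y hy).symm))
    rw [this]; exact Subgroup.mem_zpowers y
  have hCs : ¬ Group.IsSolvable (coreCent H) := fun hs => d.nsolv (by
    haveI := d.aut_two.isNilpotent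
    exact isSolvable_of_normal (coreCent H) hs inferInstance)
  have hcyc : ¬ IsCyclic (P : Subgroup (coreCent H)) := fun hc =>
    hCs (isSolvable_of_cyclic_sylow P hc)
  rcases CfsgLib.Solvable.isCyclic_or_quaternion P.isPGroup' hu with hc | ⟨-, k, ⟨e⟩⟩
  · exact hcyc hc
  · rcases Nat.eq_zero_or_pos k with rfl | hk
    · refine hcyc (CfsgLib.Solvable.isCyclic_of_unique_of_comm P.isPGroup' (fun x y => ?_) hu)
      refine e.injective ?_
      rw [map_mul, map_mul]
      have key : ∀ u v : QuaternionGroup 1, u * v = v * u := by decide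
      exact key (e x) (e y)
    · have hqP : (⟨q, d.core_le_cent hq⟩ : coreCent H) ∈ (P : Subgroup (coreCent H)) :=
        CfsgLib.Cores.pCore_le_sylow P (CfsgLib.Cores.pCore_subgroupOf_le 2 (coreCent H) hq)
      set qP : (P : Subgroup (coreCent H)) := ⟨_, hqP⟩ with hqPdef
      have hcent : ∀ y, e qP * y = y * e qP := fun y => by
        obtain ⟨x, rfl⟩ := e.surjective y
        rw [← map_mul, ← map_mul]
        congr 1
        exact Subtype.ext (Subtype.ext (mem_coreCent.1 (x : coreCent H).2 q hq))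
      have h2 : 2 ≤ 2 ^ k :=
        (le_of_eq (pow_one 2).symm).trans (Nat.pow_le_pow_right (by norm_num) hk)
      have h3 := quaternion_center_sq h2 hcent
      rw [← map_mul, ← map_one e] at h3
      have h4 : q * q = 1 := congrArg (fun w : (P : Subgroup (coreCent H)) => ((w : coreCent H) : H))
        (e.injective h3)
      exact hι1 (hqq ▸ h4)

theorem Data.oddCore_quotient (d : Data H g n) : oddCore (H ⧸ pCore 2 H) = ⊥ := by
  haveI : Fact (Nat.Prime 2) := ⟨Nat.prime_two⟩
  set R := pCore 2 H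
  set V := (oddCore (H ⧸ R)).comap (QuotientGroup.mk' R) with hV
  have hRV : R ≤ V := fun r hr => by
    show QuotientGroup.mk' R r ∈ oddCore (H ⧸ R)
    rw [show QuotientGroup.mk' R r = 1 from (QuotientGroup.eq_one_iff r).2 hr]; exact one_mem _
  have hodd := CfsgLib.Cores.odd_card_oddCore (G := H ⧸ R)
  have hVC : V ≤ coreCent H := by
    intro v hv
    by_contra hvC
    obtain ⟨m, hm, hmp, hmC⟩ := d.two_part hvC
    refine hmC (d.core_le_cent ?_)
    rw [← QuotientGroup.eq_one_iff, ← orderOf_eq_one_iff]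
    obtain ⟨k, hk⟩ := hmp ⟨v ^ m, Subgroup.mem_zpowers _⟩
    have hk' : (v ^ m) ^ 2 ^ k = 1 := congrArg Subtype.val hk
    refine Nat.eq_one_of_dvd_coprimes ((Nat.coprime_two_right.2 hodd).pow_right k) ?_
      ((orderOf_map_dvd (QuotientGroup.mk' R) (v ^ m)).trans (orderOf_dvd_of_pow_eq_one hk'))
    exact Subgroup.orderOf_dvd_natCard _ (V.pow_mem hv m)
  have hidx : (R.subgroupOf V).index = Nat.card (oddCore (H ⧸ R)) := by
    show R.relIndex V = _
    have := Subgroup.relIndex_comap (⊥ : Subgroup (H ⧸ R)) (QuotientGroup.mk' R) V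
    rw [MonoidHom.comap_bot, QuotientGroup.ker_mk', hV,
      Subgroup.map_comap_eq_self_of_surjective (QuotientGroup.mk'_surjective R),
      Subgroup.relIndex_bot_left] at this
    exact this
  obtain ⟨k, hk⟩ := CfsgLib.Cores.card_pCore_eq_pow (G := H) 2
  have hRcard : Nat.card (R.subgroupOf V) = 2 ^ k :=
    (Nat.card_congr (Subgroup.subgroupOfEquivOfLe hRV).toEquiv).trans hk
  obtain ⟨K, hK⟩ := Subgroup.exists_right_complement'_of_coprime (N := R.subgroupOf V)
    (by rw [hRcard, hidx]; exact ((Nat.coprime_two_right.2 hodd).pow_right k).symm)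
  set K0 := K.map V.subtype with hK0
  have hKcard : Nat.card K0 = Nat.card (oddCore (H ⧸ R)) := by
    rw [hK0, Subgroup.card_map_of_injective V.subtype_injective, ← hidx, hK.symm.index_eq_card]
  have hKV : K0 ≤ V := Subgroup.map_subtype_le _
  have hmem : ∀ x ∈ V, Odd (orderOf x) → x ∈ K0 := by
    intro x hx hxodd
    obtain ⟨⟨⟨⟨r, hr0⟩, hr⟩, ⟨u, hu⟩⟩, hru⟩ := hK.2 ⟨x, hx⟩
    have hru' : r * (u : H) = x := congrArg Subtype.val hru
    have hrR : r ∈ R := hr
    have huK : (u : H) ∈ K0 := Subgroup.mem_map_of_mem _ hu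
    have hc : Commute r (u : H) := mem_coreCent.1 (hVC u.2) r hrR
    obtain ⟨j, hj⟩ := CfsgLib.Cores.isPGroup_pCore 2 ⟨r, hrR⟩
    have hrj : r ^ 2 ^ j = 1 := congrArg Subtype.val hj
    have h1 : r ^ (orderOf x * Nat.card K0) = 1 := by
      have h2 : x ^ (orderOf x * Nat.card K0) = 1 := by rw [pow_mul, pow_orderOf_eq_one, one_pow]
      have h3 : (u : H) ^ (orderOf x * Nat.card K0) = 1 :=
        orderOf_dvd_iff_pow_eq_one.1 ((Subgroup.orderOf_dvd_natCard K0 huK).mul_left _)
      rw [← hru', hc.mul_pow] at h2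
      rw [← hru'] at h3 ⊢
      rwa [h3, mul_one] at h2
    have h4 : r = 1 := by
      rw [← orderOf_eq_one_iff]
      exact Nat.eq_one_of_dvd_coprimes
        ((Nat.coprime_two_right.2 (hxodd.mul (hKcard ▸ hodd))).pow_right j)
        (orderOf_dvd_of_pow_eq_one h1) (orderOf_dvd_of_pow_eq_one hrj)
    rw [← hru', h4, one_mul]; exact huK
  haveI : K0.Normal := ⟨fun u hu x => hmem _
    ((inferInstance : V.Normal).conj_mem u (hKV hu) x) (by
      rw [← MulAut.conj_apply, MulEquiv.orderOf_eq]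
      exact (hKcard ▸ hodd).of_dvd_nat (Subgroup.orderOf_dvd_natCard K0 hu))⟩
  have hK01 : K0 = ⊥ := by
    have := CfsgLib.Cores.le_oddCore_of_odd (N := K0) (hKcard ▸ hodd)
    rwa [d.core, le_bot_iff] at this
  rw [hK01, Subgroup.card_bot] at hKcard
  exact Subgroup.eq_bot_of_card_eq _ hKcard.symm

/-- Not every outer involution of a Sylow subgroup is congruent to a given one. -/
theorem Data.not_single (d : Data H g n) {j : H} (hj : IsOuterInvol j) {S : Sylow 2 H}
    (hjS : j ∈ (S : Subgroup H)) :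
    ∃ j', IsOuterInvol j' ∧ j' ∈ (S : Subgroup H) ∧ j⁻¹ * j' ∉ pCore 2 H := by
  haveI : Fact (Nat.Prime 2) := ⟨Nat.prime_two⟩
  by_contra hone
  push_neg at hone
  set π := QuotientGroup.mk' (pCore 2 H)
  have hconj : ∀ x : H, IsOuterInvol (x * j * x⁻¹) := fun x => ⟨by
    rw [conj_mul, hj.sq, mul_one, mul_inv_cancel],
    (inferInstance : (coreCent H).Normal).conj_mem j hj.cent x, fun hm => hj.nmem (by
      have := (inferInstance : (pCore 2 H).Normal).conj_mem _ hm x⁻¹
      rwa [show x⁻¹ * (x * j * x⁻¹) * x⁻¹⁻¹ = j by group] at this)⟩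
  have hiso : IsIsolatedInvolution (π j) := by
    refine ⟨orderOf_eq_prime (by rw [pow_two, ← map_mul, hj.sq, map_one])
      fun e => hj.nmem ((QuotientGroup.eq_one_iff j).1 e), fun q hq => ?_⟩
    obtain ⟨x, rfl⟩ := QuotientGroup.mk'_surjective (pCore 2 H) q
    obtain ⟨S', hjS', hxS'⟩ := exists_sylow_pair (a := j) (b := x * j * x⁻¹)
      ⟨1, by rw [pow_one, pow_two, hj.sq]; exact one_mem _⟩
      ⟨1, by rw [pow_one, pow_two, (hconj x).sq]; exact one_mem _⟩
      ⟨1, by
        rw [← QuotientGroup.eq_one_iff (N := pCore 2 H)]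
        show π _ = 1
        rw [map_mul, map_inv, map_mul, map_mul, zpow_one, map_inv, map_mul, map_mul, map_inv,
          hq.eq, mul_inv_cancel_right, inv_mul_cancel]⟩
    have hS : S' = S := d.sylow_eq_of_invol hj hjS' hjS
    subst hS
    rw [← map_inv, ← map_mul, ← map_mul]
    exact (QuotientGroup.eq.2 (hone _ (hconj x) hxS')).symm
  have hcent := CfsgLib.Invol.zstar_center hiso d.oddCore_quotient
  obtain ⟨T, x, hTS, hxo, hxT⟩ := d.exists_conj_other hj S
  refine hTS (d.sylow_eq_of_invol hxo hxT ?_)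
  have h1 : π (x * j * x⁻¹) = π j := by
    rw [map_mul, map_mul, map_inv, Subgroup.mem_center_iff.1 hcent (π x), mul_inv_cancel_right]
  have h2 : j⁻¹ * (x * j * x⁻¹) ∈ pCore 2 H := QuotientGroup.eq.1 h1.symm
  simpa using (S : Subgroup H).mul_mem hjS (CfsgLib.Cores.pCore_le_sylow S h2)

/-- Complement of the Sylow subgroup of the centraliser in its normaliser. -/
theorem exists_complement (S : Sylow 2 H) :
    ∃ K : Subgroup H, K ≤ Subgroup.normalizer ((S : Subgroup H) : Set H) ⊓ coreCent H ∧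
      ((S : Subgroup H) ⊓ coreCent H) ⊓ K = ⊥ ∧
      ((S : Subgroup H) ⊓ coreCent H) ⊔ K =
        Subgroup.normalizer ((S : Subgroup H) : Set H) ⊓ coreCent H ∧
      Odd (Nat.card K) := by
  haveI : Fact (Nat.Prime 2) := ⟨Nat.prime_two⟩
  set MC := Subgroup.normalizer ((S : Subgroup H) : Set H) ⊓ coreCent H with hMC
  set SC := (S : Subgroup H) ⊓ coreCent H with hSC
  have hle : SC ≤ MC := inf_le_inf_right _ Subgroup.le_normalizer
  haveI : (SC.subgroupOf MC).Normal := ⟨fun s hs x => by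
    rw [Subgroup.mem_subgroupOf] at hs ⊢
    exact ⟨(Subgroup.mem_normalizer_iff.1 x.2.1 _).1 hs.1,
      (inferInstance : (coreCent H).Normal).conj_mem _ hs.2 _⟩⟩
  obtain ⟨k, hk⟩ := IsPGroup.iff_card.1 (S.isPGroup'.to_le (inf_le_left : SC ≤ S))
  have hcard : Nat.card (SC.subgroupOf MC) = 2 ^ k :=
    (Nat.card_congr (Subgroup.subgroupOfEquivOfLe hle).toEquiv).trans hk
  have hodd : Odd (SC.subgroupOf MC).index := by
    rw [Nat.odd_iff, ← Nat.two_dvd_ne_zero]
    intro h2
    refine S.not_dvd_index (h2.trans ?_)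
    show SC.relIndex MC ∣ (S : Subgroup H).index
    have e : SC.relIndex MC = (S : Subgroup H).relIndex MC := by
      rw [← Subgroup.inf_relIndex_right (S : Subgroup H) MC, hMC, ← inf_assoc,
        inf_eq_left.2 Subgroup.le_normalizer]
    rw [e]
    set N := Subgroup.normalizer ((S : Subgroup H) : Set H) with hN
    have h5 := Subgroup.relIndex_dvd_index_of_normal ((S : Subgroup H).subgroupOf N)
      (MC.subgroupOf N)
    rw [Subgroup.relIndex_subgroupOf (inf_le_left : MC ≤ N)] at h5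
    exact h5.trans (Subgroup.relIndex_dvd_index_of_le Subgroup.le_normalizer)
  obtain ⟨K, hK⟩ := Subgroup.exists_right_complement'_of_coprime (N := SC.subgroupOf MC)
    (by rw [hcard]; exact ((Nat.coprime_two_right.2 hodd).pow_right k).symm)
  refine ⟨K.map MC.subtype, Subgroup.map_subtype_le _, ?_, ?_, ?_⟩
  · rw [Subgroup.eq_bot_iff_forall]
    rintro _ ⟨hs, u, hu, rfl⟩
    have h1 : u ∈ SC.subgroupOf MC ⊓ K := ⟨hs, hu⟩
    rw [hK.disjoint.eq_bot, Subgroup.mem_bot] at h1
    rw [h1]; rfl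
  · refine le_antisymm (sup_le hle (Subgroup.map_subtype_le _)) fun x hx => ?_
    obtain ⟨⟨⟨s, hs⟩, ⟨u, hu⟩⟩, hsu⟩ := hK.2 ⟨x, hx⟩
    rw [show x = (s : H) * (u : H) from (congrArg Subtype.val hsu).symm]
    exact Subgroup.mul_mem _ (Subgroup.mem_sup_left hs)
      (Subgroup.mem_sup_right (Subgroup.mem_map_of_mem _ hu))
  · rw [Subgroup.card_map_of_injective MC.subtype_injective, ← hK.symm.index_eq_card]
    exact hodd

theorem Data.absurd' (d : Data H g n) : False := by
  haveI : Fact (Nat.Prime 2) := ⟨Nat.prime_two⟩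
  set π := QuotientGroup.mk' (pCore 2 H)
  obtain ⟨y, hy⟩ := d.out
  obtain ⟨m, hm, hmp, hmC⟩ := d.two_part hy
  obtain ⟨S, hS⟩ := hmp.exists_le_sylow
  set g0 := y ^ m with hg0
  have hg0S : g0 ∈ (S : Subgroup H) := hS (Subgroup.mem_zpowers _)
  obtain ⟨K, hKle, hKdisj, hKsup, hKodd⟩ := exists_complement S
  set SC := (S : Subgroup H) ⊓ coreCent H with hSCdef
  set MC := Subgroup.normalizer ((S : Subgroup H) : Set H) ⊓ coreCent H with hMCdef
  have hnormSC : ∀ x ∈ Subgroup.normalizer ((S : Subgroup H) : Set H), ∀ s ∈ SC,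
      x * s * x⁻¹ ∈ SC := fun x hx s hs =>
    ⟨(Subgroup.mem_normalizer_iff.1 hx s).1 hs.1,
      (inferInstance : (coreCent H).Normal).conj_mem s hs.2 x⟩
  by_cases hA : ∃ j, IsOuterInvol j ∧ j ∈ (S : Subgroup H) ∧
      ∀ k ∈ K, π (k * j * k⁻¹) = π j
  · obtain ⟨j, hj, hjS, hjK⟩ := hA
    have hall : ∀ j', IsOuterInvol j' → j' ∈ (S : Subgroup H) →
        ∃ σ ∈ SC, π (σ * j * σ⁻¹) = π j' := by
      intro j' hj' hj'S
      obtain ⟨T, x, hTS, hxo, hxT⟩ := d.exists_conj_other hj S
      obtain ⟨c1, hc1, h1⟩ := d.exists_conj_cross hj hxo hjS hxT hTS.symm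
      obtain ⟨c2, hc2, h2⟩ := d.exists_conj_cross hj' hxo hj'S hxT hTS.symm
      set c := c2⁻¹ * c1 with hc
      have e1 : π (c * j * c⁻¹) = π j' := by
        have e3 : π (c1 * j * c1⁻¹) = π (x * j * x⁻¹) := QuotientGroup.eq.2 h1
        have e4 : π (c2 * j' * c2⁻¹) = π (x * j * x⁻¹) := QuotientGroup.eq.2 h2
        rw [hc, show c2⁻¹ * c1 * j * (c2⁻¹ * c1)⁻¹ = c2⁻¹ * (c1 * j * c1⁻¹) * c2 by group,
          map_mul, map_mul, e3, ← e4, ← map_mul, ← map_mul]
        congr 1; group
      have hr : (c * j * c⁻¹)⁻¹ * j' ∈ pCore 2 H := QuotientGroup.eq.1 e1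
      have hcjS : c * j * c⁻¹ ∈ (S : Subgroup H) := by
        have := (S : Subgroup H).mul_mem hj'S
          ((S : Subgroup H).inv_mem (CfsgLib.Cores.pCore_le_sylow S hr))
        simpa using this
      have hcjO : IsOuterInvol (c * j * c⁻¹) := ⟨by
        rw [conj_mul, hj.sq, mul_one, mul_inv_cancel],
        (inferInstance : (coreCent H).Normal).conj_mem j hj.cent c, fun hm => hj.nmem (by
          have := (inferInstance : (pCore 2 H).Normal).conj_mem _ hm c⁻¹
          rwa [show c⁻¹ * (c * j * c⁻¹) * c⁻¹⁻¹ = j by group] at this)⟩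
      have hcS : c • S = S := by
        refine d.sylow_eq_of_invol hcjO ?_ hcjS
        rw [Sylow.coe_subgroup_smul]
        exact Subgroup.smul_mem_pointwise_smul j (MulAut.conj c) _ hjS
      have hcM : c ∈ SC ⊔ K := by
        rw [hKsup]
        exact ⟨Sylow.smul_eq_iff_mem_normalizer.1 hcS,
          (coreCent H).mul_mem ((coreCent H).inv_mem hc2) hc1⟩
      obtain ⟨σ, hσ, k, hk, hck⟩ := CfsgLib.Solvable.exists_mul_of_mem_sup
        (fun k hk => CfsgLib.Solvable.mem_normalizer_of_conj_mem fun s hs =>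
          hnormSC k (hKle hk).1 s hs) hcM
      refine ⟨σ, hσ, ?_⟩
      rw [← e1, hck, show σ * k * j * (σ * k)⁻¹ = σ * (k * j * k⁻¹) * σ⁻¹ by group,
        map_mul, map_mul, map_mul π (σ * (k * j * k⁻¹)), map_mul π σ, hjK k hk]
    -- descent in the image of `SC`
    set P := SC.map π with hPdef
    haveI : Group.IsNilpotent P :=
      ((S.isPGroup'.to_le (inf_le_left : SC ≤ S)).map π).isNilpotent
    have hjSC : j ∈ SC := ⟨hjS, hj.cent⟩
    set a : P := ⟨π j, Subgroup.mem_map_of_mem π hjSC⟩ with hadef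
    have hcen := central_of_commuting_conj a fun q hq hne => by
      obtain ⟨-, σ, hσ, rfl⟩ : ∃ _ : True, ∃ σ, ∃ hσ : σ ∈ SC,
          (⟨π σ, Subgroup.mem_map_of_mem π hσ⟩ : P) = q := by
        obtain ⟨σ, hσ, e⟩ := q.2
        exact ⟨trivial, σ, hσ, Subtype.ext e⟩
      set j' := σ * j * σ⁻¹ with hj'
      have hj'SC : j' ∈ SC := SC.mul_mem (SC.mul_mem hσ hjSC) (SC.inv_mem hσ)
      have hval : ∀ u v : P, u = v ↔ (u : H ⧸ pCore 2 H) = v := fun u v => Subtype.ext_iff
      have hj'v : (((⟨π σ, Subgroup.mem_map_of_mem π hσ⟩ : P) * a *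
          (⟨π σ, Subgroup.mem_map_of_mem π hσ⟩ : P)⁻¹ : P) : H ⧸ pCore 2 H) = π j' := by
        rw [hj', map_mul, map_mul, map_inv]; rfl
      have hcomm : π j * π j' = π j' * π j := by
        rw [← hj'v]; exact congrArg Subtype.val hq.eq
      have hj'j : j' * j' = 1 := by rw [hj', conj_mul, hj.sq, mul_one, mul_inv_cancel]
      set u := j * j' with hu
      have huR : u ∉ pCore 2 H := fun huR => by
        refine hne ((hval _ _).2 ?_)
        rw [hj'v]
        show π j' = π j
        have h9 : π (j⁻¹) = π j' := by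
          refine QuotientGroup.eq.2 ?_
          rw [inv_inv]; exact huR
        rw [← h9, inv_eq_of_mul_eq_one_right hj.sq]
      have huu : u * u ∈ pCore 2 H := by
        rw [← QuotientGroup.eq_one_iff (N := pCore 2 H)]
        show π _ = 1
        rw [hu, map_mul, map_mul]
        calc π j * π j' * (π j * π j') = π j * (π j' * π j) * π j' := by group
          _ = (π j * π j) * (π j' * π j') := by rw [← hcomm]; group
          _ = 1 := by rw [← map_mul, ← map_mul, hj.sq, hj'j, map_one, one_mul]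
      have huC : u ∈ coreCent H := mul_mem hj.cent hj'SC.2
      have hinv : j * u * j⁻¹ = u⁻¹ := by
        rw [hu, mul_inv_rev, inv_eq_of_mul_eq_one_right hj.sq, inv_eq_of_mul_eq_one_right hj'j,
          ← mul_assoc, hj.sq, one_mul]
      obtain ⟨w, hw, hwu⟩ := d.outer_of_sq_mem hj.cent huC huR huu hinv
      have hwS : w ∈ (S : Subgroup H) := by
        have hu2 : u ∈ (S : Subgroup H) := (S : Subgroup H).mul_mem hjS hj'SC.1
        have := (S : Subgroup H).mul_mem hu2
          ((S : Subgroup H).inv_mem (CfsgLib.Cores.pCore_le_sylow S hwu))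
        simpa [← mul_assoc] using this
      obtain ⟨τ, hτ, hτw⟩ := hall w hw hwS
      refine ⟨⟨π τ, Subgroup.mem_map_of_mem π hτ⟩, (hval _ _).2 ?_⟩
      rw [Subgroup.coe_mul P a, hj'v]
      show π τ * π j * (π τ)⁻¹ = π j * π j'
      rw [← map_inv, ← map_mul, ← map_mul, hτw, ← map_mul]
      exact QuotientGroup.eq.2 hwu
    obtain ⟨j', hj', hj'S, hne⟩ := d.not_single hj hjS
    obtain ⟨σ, hσ, hσj⟩ := hall j' hj' hj'S
    refine hne (QuotientGroup.eq.1 (?_ : π j = π j'))
    have := congrArg Subtype.val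
      (Subgroup.mem_center_iff.1 hcen ⟨π σ, Subgroup.mem_map_of_mem π hσ⟩)
    rw [← hσj, map_mul, map_mul, map_inv]
    simp only [hadef, Subgroup.coe_mul] at this
    rw [this, mul_inv_cancel_right]
  · push_neg at hA
    -- an element of `S` outside the centraliser normalising the complement
    set B := MulAut.conj g0 • K with hB
    have hg0N : g0 ∈ Subgroup.normalizer ((S : Subgroup H) : Set H) := Subgroup.le_normalizer hg0S
    have hBle : B ≤ SC ⊔ K := by
      rw [hKsup]
      refine CfsgLib.Solvable.conj_smul_le_iff.2 fun k hk => ?_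
      exact ⟨Subgroup.mul_mem _ (Subgroup.mul_mem _ hg0N (hKle hk).1) (Subgroup.inv_mem _ hg0N),
        (inferInstance : (coreCent H).Normal).conj_mem k (hKle hk).2 g0⟩
    obtain ⟨kk, hkk⟩ := IsPGroup.iff_card.1 (S.isPGroup'.to_le (inf_le_left : SC ≤ S))
    obtain ⟨k, hk, hkB⟩ := CfsgLib.Solvable.exists_conj_le SC K B
      (fun k hk => CfsgLib.Solvable.mem_normalizer_of_conj_mem fun s hs =>
        hnormSC k (hKle hk).1 s hs) hKdisj hBle
      (by rw [hB, CfsgLib.Solvable.card_conj_smul, hkk]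
          exact ((Nat.coprime_two_right.2 hKodd).pow_right kk).symm)
      (Or.inl (by
        haveI := (S.isPGroup'.to_le (inf_le_left : SC ≤ S)).isNilpotent
        infer_instance))
    set u0 := k * g0 with hu0
    have hu0S : u0 ∈ (S : Subgroup H) := mul_mem hk.1 hg0S
    have hu0C : u0 ∉ coreCent H := fun h => hmC ((coreCent H).mul_mem_cancel_left hk.2 |>.1 h)
    have hu0K : u0 ∈ Subgroup.normalizer (K : Set H) := by
      refine CfsgLib.Solvable.mem_normalizer_of_conj_mem fun x hx => hkB ?_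
      have h1 : g0 * x * g0⁻¹ ∈ B := Subgroup.smul_mem_pointwise_smul x (MulAut.conj g0) K hx
      have h2 := Subgroup.smul_mem_pointwise_smul _ (MulAut.conj k) B h1
      rw [MulAut.smul_def, MulAut.conj_apply] at h2
      rwa [hu0, show k * g0 * x * (k * g0)⁻¹ = k * (g0 * x * g0⁻¹) * k⁻¹ by group]
    obtain ⟨i, hi1, hi2⟩ := CfsgLib.Solvable.exists_notMem_pow_mem (G := (S : Subgroup H)) (p := 2)
      S.isPGroup' (H := (coreCent H).subgroupOf (S : Subgroup H)) (g := ⟨u0, hu0S⟩) hu0C
    set s := u0 ^ 2 ^ i with hs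
    have hsS : s ∈ (S : Subgroup H) := pow_mem hu0S _
    have hsC : s ∉ coreCent H := hi1
    have hvC : s * s ∈ coreCent H := by
      rw [← pow_two]; exact hi2
    have hvS : s * s ∈ (S : Subgroup H) := mul_mem hsS hsS
    have hvK : ∀ x ∈ K, Commute (s * s) x := by
      intro x hx
      have hvN : s * s ∈ Subgroup.normalizer (K : Set H) :=
        mul_mem (pow_mem hu0K _) (pow_mem hu0K _)
      have h1 : s * s * x * (s * s)⁻¹ * x⁻¹ ∈ K :=
        K.mul_mem ((Subgroup.mem_normalizer_iff.1 hvN x).1 hx) (K.inv_mem hx)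
      have h2 : s * s * x * (s * s)⁻¹ * x⁻¹ ∈ SC := by
        have := hnormSC x (hKle hx).1 _ (SC.inv_mem (show s * s ∈ SC from ⟨hvS, hvC⟩))
        have := SC.mul_mem (show s * s ∈ SC from ⟨hvS, hvC⟩) this
        rwa [show s * s * (x * (s * s)⁻¹ * x⁻¹) = s * s * x * (s * s)⁻¹ * x⁻¹ by group] at this
      have h3 : s * s * x * (s * s)⁻¹ * x⁻¹ ∈ SC ⊓ K := ⟨h2, h1⟩
      rw [hKdisj, Subgroup.mem_bot, mul_inv_eq_one] at h3
      exact mul_inv_eq_iff_eq_mul.1 h3
    obtain ⟨z, hz⟩ := d.exists_outer_invol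
    by_cases hvR : s * s ∈ pCore 2 H
    · obtain ⟨T, x, hTS, hxo, hxT⟩ := d.exists_conj_other hz S
      exact hTS (d.sylow_eq_of_square hsC hvR hxo hsS hxT).symm
    obtain ⟨e, he1, he2⟩ := CfsgLib.Solvable.exists_notMem_pow_mem (G := (S : Subgroup H)) (p := 2)
      S.isPGroup' (H := (pCore 2 H).subgroupOf (S : Subgroup H)) (g := ⟨s * s, hvS⟩) hvR
    set v := (s * s) ^ 2 ^ e with hv
    have hvR' : v ∉ pCore 2 H := he1
    have hv2 : v * v ∈ pCore 2 H := by rw [← pow_two]; exact he2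
    have hvC' : v ∈ coreCent H := pow_mem hvC _
    have hv2' := hv2
    rw [d.gen] at hv2'
    obtain ⟨l, hl⟩ := hv2'
    simp only at hl
    rcases Int.even_or_odd l with ⟨l', hl'⟩ | hlodd
    · have hgC : g ∈ coreCent H := d.core_le_cent d.mem_core
      have hc : Commute (g ^ (-l')) v :=
        (show Commute g v from mem_coreCent.1 hvC' g d.mem_core).zpow_left _
      set j := g ^ (-l') * v with hjdef
      have hgl : g ^ (-l') ∈ pCore 2 H := (pCore 2 H).zpow_mem d.mem_core _
      have hj : IsOuterInvol j := ⟨by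
          rw [hjdef, mul_assoc, ← mul_assoc v, hc.symm.eq, mul_assoc (g ^ (-l')) v, ← hl,
            ← mul_assoc, ← zpow_add, ← zpow_add, hl', show -l' + -l' + (l' + l') = 0 by ring,
            zpow_zero],
        mul_mem ((coreCent H).zpow_mem hgC _) hvC',
        fun hm => hvR' (((pCore 2 H).mul_mem_cancel_left hgl).1 hm)⟩
      have hjS : j ∈ (S : Subgroup H) :=
        (S : Subgroup H).mul_mem (CfsgLib.Cores.pCore_le_sylow S hgl) (pow_mem hvS _)
      obtain ⟨x, hx, hne⟩ := hA j hj hjS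
      apply hne
      have hπj : π j = π v := by
        rw [hjdef, map_mul, show π (g ^ (-l')) = 1 from (QuotientGroup.eq_one_iff _).2 hgl,
          one_mul]
      rw [map_mul, map_mul, hπj, ← map_mul, ← map_mul,
        show x * v * x⁻¹ = v by rw [← ((hvK x hx).pow_left _).eq, mul_inv_cancel_right]]
    · refine hsC (mem_coreCent.2 fun r hr => ?_)
      have hsv : Commute s v := ((Commute.refl s).mul_right (Commute.refl s)).pow_right _
      have h1 : Commute s (g ^ l) := by rw [hl]; exact hsv.mul_right hsv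
      have h2 : g ∈ Subgroup.zpowers (g ^ l) := by
        have hg : Int.gcd l ((2 ^ (n + 2) : ℕ) : ℤ) = 1 := by
          rw [Int.gcd, Int.natAbs_natCast]
          exact (Nat.coprime_two_right.2 (Int.natAbs_odd.2 hlodd)).pow_right _
        have hb := Int.gcd_eq_gcd_ab l ((2 ^ (n + 2) : ℕ) : ℤ)
        rw [hg, Nat.cast_one] at hb
        refine ⟨Int.gcdA l ((2 ^ (n + 2) : ℕ) : ℤ), ?_⟩
        show (g ^ l) ^ _ = g
        conv_rhs => rw [← zpow_one g, hb, zpow_add, zpow_mul g ((2 ^ (n + 2) : ℕ) : ℤ),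
          zpow_natCast, ← d.ord, pow_orderOf_eq_one, one_zpow, mul_one, zpow_mul]
        rw [d.ord]
      obtain ⟨i', hi'⟩ := h2
      simp only at hi'
      have h4 : Commute s g := hi' ▸ h1.zpow_right i'
      rw [d.gen] at hr
      obtain ⟨i'', rfl⟩ := hr
      exact (h4.zpow_right i'').eq.symm

/-- **The 2-core is central.** -/
theorem core_le_center (hc : CycInt H) (hns : ¬ Group.IsSolvable H) (hO : oddCore H = ⊥) :
    pCore 2 H ≤ Subgroup.center H := by
  intro r hr
  refine Subgroup.mem_center_iff.2 fun y => ?_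
  by_contra hne
  obtain ⟨g, n, d⟩ := exists_data hc hns hO
    (y := y) (fun h => hne (mem_coreCent.1 h r hr).symm)
  exact d.absurd'

end CfsgLib.CyclicTwoInt
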